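import Cfsg.Agent.H847.Bs.Stmts
import Cfsg.Agent.H24.Bs.GenSp

set_option autoImplicit false

namespace Cfsg.Agent.H24.Bs

open Cfsg.Agent.H847.Bs Module

/-- **BS31** in the form of `H847/Bs/Stmts.lean`. -/
theorem s31 : S31 := by
  intro F V _ _ _ _ _ Φ H W U hΦ hH hirr hd h4 hon
  rcases gen_sp hΦ hH hirr hd hon (by omega) (Or.inr h4) with h | ⟨D, h1, h2⟩
  · exact Or.inl h
  · exact Or.inr ⟨D, h1, h4.trans (Submodule.finrank_mono h2)⟩

end Cfsg.Agent.H24.Bs
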